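import Mathlib.RingTheory.Kaehler.Basic
import Mathlib.Algebra.Algebra.Bilinear

/-!
Linear maps out of `Ω[A⁄k]` from bilinear maps `(a, u) ↦ "a du"`.
-/

universe u v w

namespace Groth.Agent.Diag

open KaehlerDifferential

variable {k : Type u} [CommRing k] {A : Type v} [CommRing A] [Algebra k A]

/-- A bilinear `e` obeying the Leibniz rule is `a du ↦ e a u` for a linear map on `Ω`. -/
theorem exists_linearMap_omega {Q : Type w} [AddCommGroup Q] [Module k Q]
    (e : A →ₗ[k] A →ₗ[k] Q)
    (hmul : ∀ a x y, e a (x * y) = e (a * x) y + e (a * y) x) :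
    ∃ g : Ω[A⁄k] →ₗ[k] Q, ∀ a u, g (a • D k A u) = e a u := by
  classical
  have h1 : ∀ a : A, e a 1 = 0 := fun a => by
    have h := hmul a 1 1
    simp only [mul_one] at h
    exact (add_eq_left.1 h.symm)
  let f : (A →₀ A) →ₗ[k] Q := Finsupp.lsum k (fun u : A => e.flip u)
  have hf : ∀ a u, f (Finsupp.single u a) = e a u := fun a u => by simp [f]
  have hrel : ∀ v ∈ kerTotal k A, ∀ c : A, f (c • v) = 0 := by
    intro v hv
    refine Submodule.span_induction ?_ ?_ ?_ ?_ hv
    · rintro _ ((⟨⟨x, y⟩, rfl⟩ | ⟨⟨x, y⟩, rfl⟩) | ⟨x, rfl⟩) c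
      · simp only [smul_add, smul_sub, Finsupp.smul_single, smul_eq_mul, mul_one, map_add, map_sub,
          hf, sub_self]
      · simp only [smul_add, smul_sub, Finsupp.smul_single, smul_eq_mul, mul_one, map_add, map_sub,
          hf, hmul]
        abel
      · simp only [Finsupp.smul_single, smul_eq_mul, mul_one, hf, Algebra.algebraMap_eq_smul_one,
          map_smul, h1, smul_zero]
    · simp
    · intro x y _ _ hx hy c
      rw [smul_add, map_add, hx, hy, add_zero]
    · intro a x _ hx c
      rw [smul_smul, hx]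
  have hf' : (kerTotal k A).restrictScalars k ≤ LinearMap.ker f := fun v hv => by
    simpa using hrel v hv 1
  let eqv := (Submodule.Quotient.restrictScalarsEquiv k (kerTotal k A)).symm.toLinearMap ∘ₗ
    ((quotKerTotalEquiv k A).symm.toLinearMap.restrictScalars k)
  refine ⟨((kerTotal k A).restrictScalars k).liftQ f hf' ∘ₗ eqv, fun a u => ?_⟩
  have : (quotKerTotalEquiv k A).symm (a • D k A u)
      = Submodule.Quotient.mk (Finsupp.single u a) := by
    rw [LinearEquiv.symm_apply_eq]
    simp [quotKerTotalEquiv]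
  simp only [eqv, LinearMap.comp_apply, LinearEquiv.coe_coe, LinearMap.coe_restrictScalars, this]
  exact hf a u

/-- A `k`-linear map into `Ω` hitting every `a du` is surjective. -/
theorem surjective_of_smul_D {M : Type w} [AddCommGroup M] [Module k M] (F : M →ₗ[k] Ω[A⁄k])
    (h : ∀ a u : A, ∃ m, F m = a • D k A u) : Function.Surjective F := by
  intro ω
  obtain ⟨v, rfl⟩ := linearCombination_surjective k A ω
  induction v using Finsupp.induction_linear with
  | zero => exact ⟨0, by simp⟩
  | add x y hx hy =>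
    obtain ⟨mx, hx⟩ := hx
    obtain ⟨my, hy⟩ := hy
    exact ⟨mx + my, by simp [hx, hy]⟩
  | single u a =>
    obtain ⟨m, hm⟩ := h a u
    exact ⟨m, by simp [hm]⟩

end Groth.Agent.Diag
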